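import Groth.Agent.PDual19.PushH

/-!
Cohomology vanishing is invariant under pullback along isomorphisms.
-/

set_option autoImplicit false
set_option backward.isDefEq.respectTransparency.types false
set_option linter.style.haveILetI false

noncomputable section

universe u

open CategoryTheory CategoryTheory.Limits Opposite AlgebraicGeometry TopologicalSpace CategoryTheory.Abelian

namespace Groth.Agent.AbVanish7

variable {X P : Scheme.{u}} (φ : X ⟶ P) [IsIso φ]

/-- Pullback along an isomorphism is an equivalence. -/
def pullbackEquiv : P.Modules ≌ X.Modules :=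
  CategoryTheory.Equivalence.mk (Scheme.Modules.pullback φ) (Scheme.Modules.pullback (inv φ))
    ((Scheme.Modules.pullbackId P).symm ≪≫ Scheme.Modules.pullbackCongr (IsIso.inv_hom_id φ).symm ≪≫
      (Scheme.Modules.pullbackComp (inv φ) φ).symm)
    ((Scheme.Modules.pullbackComp φ (inv φ)) ≪≫ Scheme.Modules.pullbackCongr (IsIso.hom_inv_id φ) ≪≫
      Scheme.Modules.pullbackId X)

theorem isIso_unit_pullback_of_isIso (M : P.Modules) :
    IsIso ((Scheme.Modules.pullbackPushforwardAdjunction φ).unit.app M) := by
  haveI : (Scheme.Modules.pullback φ).IsEquivalence := (pullbackEquiv φ).isEquivalence_functor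
  infer_instance

theorem subsingleton_HH_push_iff (F : X.Modules) (j : ℕ) :
    Subsingleton (Coh.HH P ((Scheme.Modules.pushforward φ).obj F) j) ↔ Subsingleton (Coh.HH X F j) := by
  haveI : (Coh.pushAb φ).Additive := inferInstance
  haveI : PreservesFiniteColimits (Coh.pushAb φ) :=
    TopCoh49.preservesFiniteColimits_push φ.base φ.isClosedEmbedding
  haveI : PreservesFiniteLimits (Coh.pushAb φ) :=
    haveI : PreservesLimitsOfSize.{0, 0} (Coh.pushAb φ) :=
      (TopCat.Sheaf.pullbackPushforwardAdjunction AddCommGrpCat.{u} φ.base).rightAdjoint_preservesLimits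
    PreservesLimitsOfSize.preservesFiniteLimits _
  have h : Function.Bijective (SiteCoh.extTransfer (Coh.pushAb φ) (PDual19.srcMap φ) (Coh.toAb F) j) :=
    SiteCoh.extTransfer_bijective (Coh.pushAb φ) (PDual19.srcMap φ) (PDual19.bijective_srcMap φ)
      (fun I hI n => by
        haveI : Injective ((Coh.pushAb φ).obj I) := Coh69.pushSh_injective φ.base I
        exact Ext.subsingleton_of_injective _ _ n) j (Coh.toAb F)
  exact ⟨fun hs => @Function.Injective.subsingleton _ _ _ h.injective hs,
    fun hs => @Function.Surjective.subsingleton _ _ _ hs h.surjective⟩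

theorem subsingleton_HH_pullback_iff (M : P.Modules) (j : ℕ) :
    Subsingleton (Coh.HH X ((Scheme.Modules.pullback φ).obj M) j) ↔ Subsingleton (Coh.HH P M j) := by
  haveI := isIso_unit_pullback_of_isIso φ M
  let e : M ≅ (Scheme.Modules.pushforward φ).obj ((Scheme.Modules.pullback φ).obj M) :=
    asIso ((Scheme.Modules.pullbackPushforwardAdjunction φ).unit.app M)
  let a : Coh.HH P M j ≃+ Coh.HH P ((Scheme.Modules.pushforward φ).obj ((Scheme.Modules.pullback φ).obj M)) j :=
    ((Sheaf.functorH _ j).mapIso ((SheafOfModules.toSheaf P.ringCatSheaf).mapIso e)).addCommGroupIsoToAddEquiv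
  exact (subsingleton_HH_push_iff φ _ j).symm.trans a.toEquiv.subsingleton_congr.symm

end Groth.Agent.AbVanish7
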