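import Groth.Agent.AbVanish7.Resolution
import Groth.Agent.S3523
import Groth.Agent.S3529
import Groth.Agent.Mod48.KFlatColim
import Groth.Agent.Mod48.KFlatSymm
import Groth.Agent.FBase64.AssTensor.Over
import Groth.Agent.Amp73.GlobGen
import Groth.Agent.QC70.Colim

/-!
Künneth vanishing for external tensor products over a field.
-/

set_option autoImplicit false
set_option backward.isDefEq.respectTransparency false
set_option backward.isDefEq.respectTransparency.types false
set_option synthInstance.maxHeartbeats 200000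
set_option maxHeartbeats 800000
set_option linter.style.haveILetI false

noncomputable section

universe u

open CategoryTheory CategoryTheory.Limits Opposite AlgebraicGeometry TopologicalSpace

attribute [local instance] HasDerivedCategory.standard

namespace Groth.Agent.AbVanish7

open Groth.Agent.HTor49

variable {k : Type u} [Field k]

/-- A resolution of a module by acyclic modules, with its sections computing derived global sections. -/
theorem exists_resolution_single {X : Scheme.{u}} (f : X ⟶ Spec (CommRingCat.of k)) [QuasiCompact f] [IsSeparated f]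
    [HTor.HasRΓA f] (M : X.Modules) (hM : Coh.IsQCoh M) :
    ∃ (L : DRing.Cx k) (c : ℤ), DRing.VanishesAbove L c ∧
      (∀ i, i < 0 → IsZero (L.X i)) ∧
      HTor.Computes f L (DCoh.toD X ((HomologicalComplex.single X.Modules (ComplexShape.up ℤ) 0).obj M)) ∧
      ∀ n : ℕ, L.ExactAt (n : ℤ) ↔ Subsingleton (Coh.HH X M n) := by
  haveI := isSeparated_of_over f
  haveI : CompactSpace X := isCompact_univ_iff.1
    (QuasiCompact.isCompact_preimage (f := f) _ isOpen_univ isCompact_univ)
  obtain ⟨N, U, hU, hcov⟩ := exists_fin_affine_cover X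
  let P := (HomologicalComplex.single X.Modules (ComplexShape.up ℤ) 0).obj M
  have hz : ∀ n : ℤ, n ≠ 0 → IsZero (P.X n) := fun n hn =>
    HomologicalComplex.isZero_single_obj_X (ComplexShape.up ℤ) 0 M n hn
  have hq : ∀ n, Coh.IsQCoh (P.X n) := fun n => by
    by_cases hn : n = 0
    · subst hn
      exact (SheafOfModules.isQuasicoherent X.ringCatSheaf).prop_of_iso
        (HomologicalComplex.singleObjXSelf (ComplexShape.up ℤ) 0 M).symm hM
    · exact QC70.isQuasicoherent_of_isZero (hz n hn)
  obtain ⟨T, η, hη, hT, hTa, hTb, -, hc⟩ :=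
    exists_computes_sections f hq N U hU hcov (b := 0) (fun n hn => hz n (by omega)) 0
  have hTa' : ∀ n, n < 0 → IsZero (T.X n) := hTa fun n hn => hz n (by omega)
  refine ⟨_, 0 + N, fun n hn => Functor.map_isZero (HTor.globalSectionsA f) (hTb n hn),
    fun n hn => Functor.map_isZero (HTor.globalSectionsA f) (hTa' n hn), hc,
    fun n => exactAt_iff_subsingleton_HH f η hTa' (fun i => (hT i).acyAt fun W hW => by rw [inf_top_eq]; exact hW) n⟩

/-- Künneth vanishing over a field. -/
theorem subsingleton_HH_extTensor {X Y : Scheme.{u}} (f : X ⟶ Spec (CommRingCat.of k)) (g : Y ⟶ Spec (CommRingCat.of k))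
    [QuasiCompact f] [IsSeparated f] [QuasiCompact g] [IsSeparated g] (F : X.Modules) (hF : Coh.IsQCoh F)
    (G : Y.Modules) (hG : Coh.IsQCoh G) (n : ℕ) :
    Subsingleton (Coh.HH (pullback f g)
      (CohB1.tensorMod ((Scheme.Modules.pullback (pullback.fst f g)).obj F)
        ((Scheme.Modules.pullback (pullback.snd f g)).obj G)) n) ↔
      ∀ a b : ℕ, a + b = n → Subsingleton (Coh.HH X F a) ∨ Subsingleton (Coh.HH Y G b) := by
  let Z := pullback f g
  let π := pullback.fst f g ≫ f
  haveI : QuasiCompact π := inferInstance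
  haveI : IsSeparated π := inferInstance
  haveI := hasRΓA f
  haveI := hasRΓA g
  haveI := hasRΓA π
  let F' := (Scheme.Modules.pullback (pullback.fst f g)).obj F
  let G' := (Scheme.Modules.pullback (pullback.snd f g)).obj G
  haveI : F.IsQuasicoherent := hF
  haveI : G.IsQuasicoherent := hG
  have hN : Coh.IsQCoh (CohB1.tensorMod F' G') :=
    Amp73.isQCoh_tensorMod (QCPull72.isQuasicoherent_pullback _ F) (QCPull72.isQuasicoherent_pullback _ G)
  obtain ⟨L₁, c₁, hc₁, h₁, e₁, x₁⟩ := exists_resolution_single f F hF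
  obtain ⟨L₂, c₂, hc₂, h₂, e₂, x₂⟩ := exists_resolution_single g G hG
  obtain ⟨L, c, -, -, ⟨e⟩, x⟩ := exists_resolution_single π _ hN
  let sX := HomologicalComplex.single X.Modules (ComplexShape.up ℤ) 0
  let sY := HomologicalComplex.single Y.Modules (ComplexShape.up ℤ) 0
  have qc : ∀ {W : Scheme.{u}} (M : W.Modules), Coh.IsQCoh M → ∀ i : ℤ,
      Coh.IsQCoh (((HomologicalComplex.single W.Modules (ComplexShape.up ℤ) 0).obj M).X i) := by
    intro W M hM i
    by_cases hi : i = 0
    · subst hi
      exact (SheafOfModules.isQuasicoherent W.ringCatSheaf).prop_of_iso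
        (HomologicalComplex.singleObjXSelf (ComplexShape.up ℤ) 0 M).symm hM
    · exact QC70.isQuasicoherent_of_isZero (HomologicalComplex.isZero_single_obj_X _ 0 M i hi)
  have hp : ∀ (L : DRing.Cx k) (i : ℤ), Projective (L.X i) := fun L i =>
    haveI : Module.Free k (L.X i) := Module.Free.of_divisionRing k _
    (IsProjective.iff_projective (R := k) _).1 Module.Projective.of_free
  obtain ⟨e₁₂⟩ := S3529.result k X Y f g (sX.obj F) (sY.obj G) (qc F hF) (qc G hG)
    ⟨0, fun i hi => HomologicalComplex.isZero_single_obj_X _ 0 F i (by omega)⟩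
    ⟨0, fun i hi => HomologicalComplex.isZero_single_obj_X _ 0 G i (by omega)⟩
    (fun i => FBase64.AssTensor.isFlatOver_field f _) L₁ L₂ (hp L₁) (hp L₂) ⟨c₁, hc₁⟩ ⟨c₂, hc₂⟩ e₁ e₂
  let sZ := HomologicalComplex.single Z.Modules (ComplexShape.up ℤ) 0
  let a : HTor.extTensorCx f g (sX.obj F) (sY.obj G) ≅ sZ.obj (CohB1.tensorMod F' G') :=
    ((DCoh.tensorCx (X := Z)).mapIso
        ((HomologicalComplex.singleMapHomologicalComplex (Scheme.Modules.pullback (pullback.fst f g)) (ComplexShape.up ℤ) 0).app F)).app _ ≪≫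
      (((DCoh.tensorCx (X := Z)).obj (sZ.obj F')).mapIso
        ((HomologicalComplex.singleMapHomologicalComplex (Scheme.Modules.pullback (pullback.snd f g)) (ComplexShape.up ℤ) 0).app G)) ≪≫
      (Mod48.tcSingleIso (O := Z.sheaf) (sZ.obj F') G').symm ≪≫
      (HomologicalComplex.singleMapHomologicalComplex ((DCoh.tensorBi (X := Z)).flip.obj G') (ComplexShape.up ℤ) 0).app F'
  let q : DRing.toD (HTor.tensorCx L₁ L₂) ≅ DRing.toD L :=
    e₁₂ ≪≫ (HTor.RΓA π).mapIso ((DerivedCategory.Q).mapIso a) ≪≫ e.symm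
  let r : L.homology (n : ℤ) ≅ (HTor.tensorCx L₁ L₂).homology (n : ℤ) :=
    ((DerivedCategory.homologyFunctorFactors (ModuleCat.{u} k) (n : ℤ)).app L).symm ≪≫
      (DerivedCategory.homologyFunctor (ModuleCat.{u} k) (n : ℤ)).mapIso q.symm ≪≫
      (DerivedCategory.homologyFunctorFactors (ModuleCat.{u} k) (n : ℤ)).app (HTor.tensorCx L₁ L₂)
  obtain ⟨Φ, -, hΦ⟩ := S3523.result k L₁ L₂ (fun i => (inferInstance : Module.Flat k (L₁.X i)))
    ⟨c₁, hc₁⟩ ⟨c₂, hc₂⟩ (fun i => (inferInstance : Module.Flat k (L₁.homology i))) (n : ℤ)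
  have sub_iff : ∀ (K : DRing.Cx k) (i : ℤ), K.ExactAt i ↔ Subsingleton (K.homology i) := fun K i =>
    (HomologicalComplex.exactAt_iff_isZero_homology _ _).trans ModuleCat.isZero_iff_subsingleton
  have key : Subsingleton (Coh.HH (pullback f g) (CohB1.tensorMod F' G') n) ↔
      Subsingleton (HTor.KunnethSum L₁ L₂ (n : ℤ)) := by
    refine (x n).symm.trans ((sub_iff _ _).trans ?_)
    refine (ModuleCat.isZero_iff_subsingleton.symm.trans (Iff.trans ⟨fun h => h.of_iso r.symm, fun h => h.of_iso r⟩
      ModuleCat.isZero_iff_subsingleton)).trans ?_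
    exact ⟨fun _ => hΦ.injective.subsingleton, fun _ => hΦ.surjective.subsingleton⟩
  refine key.trans ⟨fun hsum a b hab => ?_, fun h => ?_⟩
  · let ij : HTor.Antidiag (n : ℤ) := ⟨((a : ℤ), (b : ℤ)), by dsimp only; omega⟩
    have hs : Subsingleton (TensorProduct k (L₁.homology (a : ℤ)) (L₂.homology (b : ℤ))) :=
      (DirectSum.of_injective (β := fun ij : HTor.Antidiag (n : ℤ) =>
        TensorProduct k (L₁.homology ij.1.1) (L₂.homology ij.1.2)) ij).subsingleton
    rw [← x₁, ← x₂, sub_iff, sub_iff]
    by_contra hc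
    rw [not_or, not_subsingleton_iff_nontrivial, not_subsingleton_iff_nontrivial] at hc
    obtain ⟨h1, h2⟩ := hc
    exact not_subsingleton (TensorProduct k (L₁.homology (a : ℤ)) (L₂.homology (b : ℤ))) hs
  · haveI : ∀ ij : HTor.Antidiag (n : ℤ), Subsingleton
        (TensorProduct k (L₁.homology ij.1.1) (L₂.homology ij.1.2)) := by
      rintro ⟨⟨a, b⟩, hab⟩
      dsimp only at hab ⊢
      have hl : ∀ (L : DRing.Cx k) (i : ℤ), IsZero (L.X i) → Subsingleton (L.homology i) := fun L i hi =>
        (sub_iff _ _).1 (ShortComplex.exact_of_isZero_X₂ _ hi)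
      have h' : Subsingleton (L₁.homology a) ∨ Subsingleton (L₂.homology b) := by
        by_cases ha : a < 0
        · exact Or.inl (hl _ _ (h₁ a ha))
        by_cases hb : b < 0
        · exact Or.inr (hl _ _ (h₂ b hb))
        obtain ⟨a, rfl⟩ := Int.eq_ofNat_of_zero_le (not_lt.1 ha)
        obtain ⟨b, rfl⟩ := Int.eq_ofNat_of_zero_le (not_lt.1 hb)
        rcases h a b (by omega) with h' | h'
        · exact Or.inl ((sub_iff _ _).1 ((x₁ a).2 h'))
        · exact Or.inr ((sub_iff _ _).1 ((x₂ b).2 h'))
      refine subsingleton_of_forall_eq 0 fun t => ?_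
      induction t using TensorProduct.induction_on with
      | zero => rfl
      | tmul u v =>
        rcases h' with h' | h'
        · rw [Subsingleton.elim u 0, TensorProduct.zero_tmul]
        · rw [Subsingleton.elim v 0, TensorProduct.tmul_zero]
      | add u v hu hv => rw [hu, hv, add_zero]
    exact ⟨fun u v => DFinsupp.ext fun i => Subsingleton.elim _ _⟩

end Groth.Agent.AbVanish7
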