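import Groth.Agent.HTor49.BoxMain
import Groth.Agent.Coh69.AcyclicRes
import Groth.Agent.TopCoh49.Top
import Groth.Agent.CohDer42.RdAdj
import Groth.Agent.Coh69.Grothendieck

/-!
An acyclic resolution computes cohomology, in vanishing form; existence of derived global sections.
-/

set_option autoImplicit false
set_option backward.isDefEq.respectTransparency false
set_option backward.isDefEq.respectTransparency.types false
set_option synthInstance.maxHeartbeats 200000
set_option maxHeartbeats 800000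
set_option linter.style.haveILetI false

noncomputable section

universe u

open CategoryTheory CategoryTheory.Limits Opposite AlgebraicGeometry TopologicalSpace CategoryTheory.Abelian

attribute [local instance] HasDerivedCategory.standard

namespace Groth.Agent.AbVanish7

open Groth.Agent.HTor49

variable {A : Type u} [CommRing A] {X : Scheme.{u}} (f : X ⟶ Spec (CommRingCat.of A))

/-- Derived global sections exist. -/
theorem hasRΓA : HTor.HasRΓA f :=
  Functor.HasRightDerivedFunctor.mk' (RF := CohDer42.RdAdj.rd (HTor.globalSectionsA f))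
    (α := CohDer42.RdAdj.rdUnit (HTor.globalSectionsA f))

variable {M : X.Modules} {T : CochainComplex X.Modules ℤ}

/-- The resolution, cut into short exact sequences of abelian sheaves. -/
def cosyz (hex : ∀ j : ℕ, T.ExactAt ((j : ℤ) + 1)) :
    Coh69.Cosyz (Sheaf (Opens.grothendieckTopology X) AddCommGrpCat.{u}) where
  Z j := Coh.toAb (T.cycles (j : ℤ))
  I j := Coh.toAb (T.X (j : ℤ))
  ι j := (SheafOfModules.toSheaf X.ringCatSheaf).map (T.iCycles (j : ℤ))
  π j := (SheafOfModules.toSheaf X.ringCatSheaf).map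
    (T.toCycles (j : ℤ) ((j : ℤ) + 1) ≫ eqToHom (congrArg (fun i : ℤ => T.cycles i) (show (j : ℤ) + 1 = ((j + 1 : ℕ) : ℤ) by push_cast; rfl)))
  w j := by
    rw [← Functor.map_comp, ← Category.assoc,
      show T.iCycles (j : ℤ) ≫ T.toCycles (j : ℤ) ((j : ℤ) + 1) = 0 from
        (CohDer42.FiniteDim.cycSC T (j : ℤ) ((j : ℤ) + 1)).zero, zero_comp, Functor.map_zero]
  shortExact j := by
    have h := Crv77.abComplex_shortExact
      (CohDer42.FiniteDim.shortExact_cycSC T (j : ℤ) ((j : ℤ) + 1) (by simp) (by simp) (hex j))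
    exact ShortComplex.shortExact_of_iso (ShortComplex.isoMk (Iso.refl _) (Iso.refl _)
      ((SheafOfModules.toSheaf X.ringCatSheaf).mapIso (eqToIso (congrArg (fun i : ℤ => T.cycles i) (show (j : ℤ) + 1 = ((j + 1 : ℕ) : ℤ) by push_cast; rfl))))
      (by simp) (by simp [Functor.map_comp])) h

/-- Exactness of the complex of global sections, on sections. -/
theorem exactAt_sections_iff (n : ℤ) :
    (((HTor.globalSectionsA f).mapHomologicalComplex (ComplexShape.up ℤ)).obj T).ExactAt n ↔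
      ∀ x : Γ(T.X n, ⊤), (T.d n (n + 1)).app ⊤ x = 0 → ∃ t : Γ(T.X (n - 1), ⊤), (T.d (n - 1) n).app ⊤ t = x := by
  rw [HomologicalComplex.exactAt_iff' _ (n - 1) n (n + 1) (by simp) (by simp), ShortComplex.moduleCat_exact_iff]
  exact Iff.rfl

/-- Sections of cycles are cycles of sections. -/
theorem exists_cycle {n : ℤ} (h : T.ExactAt (n + 1)) (x : Γ(T.X n, ⊤)) (hx : (T.d n (n + 1)).app ⊤ x = 0) :
    ∃ z : Γ(T.cycles n, ⊤), (T.iCycles n).app ⊤ z = x := by
  have hS := Crv77.abComplex_shortExact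
    (CohDer42.FiniteDim.shortExact_cycSC T n (n + 1) (by simp) (by simp) h)
  haveI : Mono (T.iCycles (n + 1)) := inferInstance
  have h2 : (T.toCycles n (n + 1)).app ⊤ x = 0 := by
    have hinj : Function.Injective ((T.iCycles (n + 1)).app ⊤) := by
      intro a b hab
      apply (fvEquiv (⊤ : X.Opens) (T.cycles (n + 1))).symm.injective
      rw [← cancel_mono (T.iCycles (n + 1))]
      apply (fvEquiv (⊤ : X.Opens) (T.X (n + 1))).injective
      rw [fvEquiv_comp, fvEquiv_comp, Equiv.apply_symm_apply, Equiv.apply_symm_apply]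
      exact hab
    refine hinj ?_
    rw [map_zero]
    have := congrArg (fun (g : T.X n ⟶ T.X (n + 1)) => g.app ⊤ x) (T.toCycles_i n (n + 1))
    exact this.trans hx
  obtain ⟨z, hz⟩ := Coh69.sect_exact hS (⊤ : X.Opens) x h2
  exact ⟨z, hz⟩

theorem sect_injective {n : ℤ} : Function.Injective ((T.iCycles n).app (⊤ : X.Opens)) := by
  intro a b hab
  apply (fvEquiv (⊤ : X.Opens) (T.cycles n)).symm.injective
  rw [← cancel_mono (T.iCycles n)]
  apply (fvEquiv (⊤ : X.Opens) (T.X n)).injective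
  rw [fvEquiv_comp, fvEquiv_comp, Equiv.apply_symm_apply, Equiv.apply_symm_apply]
  exact hab

/-- An acyclic resolution computes whether cohomology vanishes. -/
theorem exactAt_iff_subsingleton_HH (η : (HomologicalComplex.single X.Modules (ComplexShape.up ℤ) 0).obj M ⟶ T)
    [QuasiIso η] (hneg : ∀ i, i < 0 → IsZero (T.X i)) (hacy : ∀ i, AcyAt (⊤ : X.Opens) (T.X i)) (n : ℕ) :
    (((HTor.globalSectionsA f).mapHomologicalComplex (ComplexShape.up ℤ)).obj T).ExactAt (n : ℤ) ↔
      Subsingleton (Coh.HH X M n) := by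
  have hex : ∀ j : ℕ, T.ExactAt ((j : ℤ) + 1) := fun j =>
    (HomologicalComplex.exactAt_iff_isZero_homology _ _).2
      (((HomologicalComplex.exactAt_iff_isZero_homology _ _).1
        (HomologicalComplex.exactAt_single_obj (ComplexShape.up ℤ) 0 M _ (by omega))).of_iso
          (asIso (HomologicalComplex.homologyMap η ((j : ℤ) + 1))).symm)
  have eM : T.cycles 0 ≅ M :=
    haveI := T.isIso_homologyπ (-1) 0 (by simp) ((hneg (-1) (by omega)).eq_of_src _ _)
    asIso (T.homologyπ 0) ≪≫ (asIso (HomologicalComplex.homologyMap η 0)).symm ≪≫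
      HomologicalComplex.singleObjHomologySelfIso (ComplexShape.up ℤ) 0 M
  let R := cosyz hex
  have hT : ∀ j k, Subsingleton (Ext.{u} (CohCx.freeSheaf (Opens.grothendieckTopology X) (⊤ : X.Opens))
      (R.I j) (k + 1)) := fun j k => hacy _ k
  have eH : Subsingleton (Coh69.HE (R.Z 0) n (⊤ : X.Opens)) ↔ Subsingleton (Coh.HH X M n) := by
    refine Iff.trans ?_ (TopCoh49.HEquivTop (X := X.toTopCat) (Coh.toAb M) n).toEquiv.subsingleton_congr.symm
    exact ⟨fun h => @ext_subsingleton_of_iso _ _ _ _ (CohCx.freeSheaf (Opens.grothendieckTopology X) (⊤ : X.Opens)) _ _ n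
        ((SheafOfModules.toSheaf X.ringCatSheaf).mapIso eM) h,
      fun h => @ext_subsingleton_of_iso _ _ _ _ (CohCx.freeSheaf (Opens.grothendieckTopology X) (⊤ : X.Opens)) _ _ n
        ((SheafOfModules.toSheaf X.ringCatSheaf).mapIso eM.symm) h⟩
  rw [← eH, exactAt_sections_iff]
  cases n with
  | zero =>
    constructor
    · intro h
      refine subsingleton_of_forall_eq 0 fun y => ?_
      obtain ⟨s, rfl⟩ := R.toExt_surjective _ hT 0 y
      obtain ⟨z, rfl⟩ := (SiteCoh.homAddEquivSec (⊤ : X.Opens) (R.Z 0)).symm.surjective s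
      change Γ(T.cycles 0, ⊤) at z
      obtain ⟨t, ht⟩ := h ((T.iCycles 0).app ⊤ z) (by
        have := congrArg (fun (g : T.cycles 0 ⟶ T.X 1) => g.app ⊤ z) (T.iCycles_d 0 1)
        exact this)
      have : z = 0 := sect_injective (T := T) (by
        rw [map_zero, ← ht]
        have := (hneg (((0 : ℕ) : ℤ) - 1) (by simp)).eq_of_src (T.d (((0 : ℕ) : ℤ) - 1) ((0 : ℕ) : ℤ)) 0
        rw [this]; rfl)
      rw [this, map_zero]
      exact map_zero _
    · intro h x hx
      obtain ⟨z, rfl⟩ := exists_cycle (by simpa using hex 0) x hx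
      refine ⟨0, ?_⟩
      have hz : R.toExt _ 0 ((SiteCoh.homAddEquivSec (⊤ : X.Opens) (R.Z 0)).symm z) = 0 := Subsingleton.elim _ _
      have hz' : (SiteCoh.homAddEquivSec (⊤ : X.Opens) (R.Z 0)).symm z = 0 :=
        (Ext.mk₀_bijective _ (R.Z 0)).1 (by
          refine (Ext.comp_mk₀_id _).symm.trans (hz.trans ?_)
          simp)
      rw [map_zero, (map_eq_zero_iff _ (SiteCoh.homAddEquivSec (⊤ : X.Opens) (R.Z 0)).symm.injective).1 hz']
      exact (map_zero _).symm
  | succ m =>
    constructor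
    · intro h
      refine subsingleton_of_forall_eq 0 fun y => ?_
      obtain ⟨s, rfl⟩ := R.toExt_surjective _ hT (m + 1) y
      obtain ⟨z, rfl⟩ := (SiteCoh.homAddEquivSec (⊤ : X.Opens) (R.Z (m + 1))).symm.surjective s
      refine (R.toExt_eq_zero_iff _ hT m _).2 ((Coh69.exists_sect_iff (S := R.S m) (R.π m) (⊤ : X.Opens) z).2 ?_)
      change Γ(T.cycles ((m + 1 : ℕ) : ℤ), ⊤) at z
      obtain ⟨t, ht⟩ := h ((T.iCycles _).app ⊤ z) (by
        have := congrArg (fun (g : T.cycles ((m + 1 : ℕ) : ℤ) ⟶ _) => g.app ⊤ z)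
          (T.iCycles_d ((m + 1 : ℕ) : ℤ) (((m + 1 : ℕ) : ℤ) + 1))
        exact this)
      have key : ∀ (a b : ℤ) (ha : a = (m : ℤ)) (hb : b = ((m + 1 : ℕ) : ℤ)) (z' : Γ(T.cycles b, ⊤))
          (t' : Γ(T.X a, ⊤)), (T.d a b).app ⊤ t' = (T.iCycles b).app ⊤ z' →
          ∃ t₀ : Γ(T.X (m : ℤ), ⊤), (T.toCycles (m : ℤ) ((m : ℤ) + 1) ≫
            eqToHom (congrArg (fun i : ℤ => T.cycles i) (show (m : ℤ) + 1 = b by rw [hb]; push_cast; rfl))).app ⊤ t₀ = z' := by
        rintro a b rfl rfl z' t' h'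
        refine ⟨t', sect_injective (T := T) (Eq.trans ?_ h')⟩
        have e : ∀ (c : ℤ) (hc : (m : ℤ) + 1 = c), (T.toCycles (m : ℤ) ((m : ℤ) + 1) ≫
            eqToHom (congrArg (fun i : ℤ => T.cycles i) hc)) ≫ T.iCycles c = T.d (m : ℤ) c := by
          rintro c rfl; simp
        exact congrArg (fun (g : T.X (m : ℤ) ⟶ _) => g.app ⊤ t') (e _ (by push_cast; rfl))
      exact key _ _ (by push_cast; omega) rfl z t ht
    · intro h x hx
      obtain ⟨z, rfl⟩ := exists_cycle (by exact hex (m + 1)) x hx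
      have hz : R.toExt _ (m + 1) ((SiteCoh.homAddEquivSec (⊤ : X.Opens) (R.Z (m + 1))).symm z) = 0 :=
        Subsingleton.elim _ _
      obtain ⟨t, ht⟩ :=
        (Coh69.exists_sect_iff (S := R.S m) (R.π m) (⊤ : X.Opens) z).1 ((R.toExt_eq_zero_iff _ hT m _).1 hz)
      have key : ∀ (a : ℤ) (_ : (m : ℤ) = a) (b : ℤ) (hb : (m : ℤ) + 1 = b) (t₀ : Γ(T.X (m : ℤ), ⊤)),
          ∃ t' : Γ(T.X a, ⊤), (T.d a b).app ⊤ t' = (T.iCycles b).app ⊤
            ((T.toCycles (m : ℤ) ((m : ℤ) + 1) ≫ eqToHom (congrArg (fun i : ℤ => T.cycles i) hb)).app ⊤ t₀) := by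
        rintro a rfl b rfl t₀
        refine ⟨t₀, ?_⟩
        simp only [eqToHom_refl, Category.comp_id]
        exact (congrArg (fun (g : T.X (m : ℤ) ⟶ _) => g.app ⊤ t₀) (T.toCycles_i (m : ℤ) ((m : ℤ) + 1))).symm
      rw [← ht]
      exact key _ (by push_cast; omega) _ (by push_cast; rfl) t

end Groth.Agent.AbVanish7
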